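import Groth.Agent.CodimOne.Factorial
import Groth.Agent.RefDiv.Group
import Groth.Agent.ReflStalk.RankOne
import Groth.Agent.TensorMod.Invertible

/-!
# Every divisor of a normal scheme is Cartier iff the scheme is locally factorial
-/

set_option autoImplicit false
set_option linter.style.haveILetI false
set_option backward.isDefEq.respectTransparency.types false

noncomputable section

universe u

open CategoryTheory AlgebraicGeometry TopologicalSpace Order Opposite
open Groth.Agent.QCohBase Groth.Agent.GenLocus Groth.Agent.RefDiv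

namespace Groth.Agent.CodimOne

variable {X : Scheme.{u}}

theorem frame_stalk_bijective {F : X.Modules} {W : X.Opens} {x : X} (hx : x ∈ W) {e : Γ(F, W)}
    (he : IsFrame F e) :
    Function.Bijective fun a : X.presheaf.stalk x => a • F.presheaf.germ W x hx e := by
  have hres : ∀ (V : X.Opens) (hVW : V ≤ W) (hV : x ∈ V) (r : Γ(X, V)),
      F.presheaf.germ V x hV (r • mres F hVW e) = X.presheaf.germ V x hV r • F.presheaf.germ W x hx e := by
    intro V hVW hV r
    rw [Mero.germ_smul, mres, TopCat.Presheaf.germ_res_apply]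
  refine ⟨fun a b hab => ?_, fun v => ?_⟩
  · obtain ⟨Ua, ha, ra, rfl⟩ := TopCat.Presheaf.exists_germ_eq X.presheaf a
    obtain ⟨Ub, hb, rb, rfl⟩ := TopCat.Presheaf.exists_germ_eq X.presheaf b
    let V := (Ua ⊓ Ub) ⊓ W
    have hV : x ∈ V := ⟨⟨ha, hb⟩, hx⟩
    have hle : V ≤ Ua := inf_le_left.trans inf_le_left
    have hle' : V ≤ Ub := inf_le_left.trans inf_le_right
    simp only at hab
    rw [← TopCat.Presheaf.germ_res_apply X.presheaf (homOfLE hle) _ hV,
      ← TopCat.Presheaf.germ_res_apply X.presheaf (homOfLE hle') _ hV,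
      ← hres V inf_le_right hV, ← hres V inf_le_right hV] at hab
    obtain ⟨T, hT, i₁, i₂, hT'⟩ := TopCat.Presheaf.germ_eq F.presheaf _ hV hV _ _ hab
    have h2 : ∀ (i : T ⟶ V) (r : Γ(X, V)), F.presheaf.map i.op (r • mres F inf_le_right e) =
        X.presheaf.map i.op r • mres F (i.le.trans inf_le_right) e := fun i r => by
      rw [Scheme.Modules.map_smul]
      exact congrArg (_ • ·) (mres_mres F _ i.le e)
    rw [h2, h2] at hT'
    have h3 := (he T (i₁.le.trans inf_le_right)).1 hT'
    have h4 := congrArg (X.presheaf.germ T x hT) h3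
    rw [TopCat.Presheaf.germ_res_apply, TopCat.Presheaf.germ_res_apply,
      TopCat.Presheaf.germ_res_apply, TopCat.Presheaf.germ_res_apply] at h4
    exact h4
  · obtain ⟨Uv, hv, m, rfl⟩ := TopCat.Presheaf.exists_germ_eq F.presheaf v
    let V := Uv ⊓ W
    obtain ⟨r, hr⟩ := (he V inf_le_right).2 (mres F (inf_le_left : V ≤ Uv) m)
    refine ⟨X.presheaf.germ V x ⟨hv, hx⟩ r, ?_⟩
    simp only at hr ⊢
    rw [← hres V inf_le_right ⟨hv, hx⟩ r, hr, mres, TopCat.Presheaf.germ_res_apply]

variable [IsIntegral X] [IsLocallyNoetherian X] [Nrm X]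

theorem exists_cartier (hufd : ∀ x : X, UniqueFactorizationMonoid (X.presheaf.stalk x)) (Z : X → ℤ)
    (hfin : ∀ x : X, ∃ W : X.Opens, x ∈ W ∧ {z : X | z ∈ W ∧ Z z ≠ 0}.Finite) :
    ∃ (L : X.Modules) (_ : PicF.IsInvertible L) (s : Cyc.secFibre L (genericPoint X)), s ≠ 0 ∧
      ∀ x : X, coheight x = 1 → Cyc.secOrdAt L (genericPoint X) x (eta_spec x) s = Z x := by
  have hD : LocFin Z := fun x => by
    obtain ⟨W, hW, hf⟩ := hfin x
    exact ⟨W, hW, hf.subset fun z hz => ⟨hz.1, hz.2.2⟩⟩
  obtain ⟨hC, hR, hG⟩ := isRef1_OD hD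
  obtain ⟨v, hv⟩ := (fnlOD_good hD).bij.2 1
  have hv0 : v ≠ 0 := fun h => by rw [h, map_zero] at hv; exact zero_ne_one hv
  refine ⟨OD Z, ReflStalk.isInvertible_of_rank_one_ufd hufd hC hR hG, Submodule.Quotient.mk v,
    fun h => hv0 ((secFibre_bijective _).1 h), fun z hz => ?_⟩
  rw [secOrdAt_eq (fnlOD_good hD) hz (fun a b hab => evK_injective _ z (by
    rwa [valAt_fnlOD, valAt_fnlOD] at hab)) v hv0, hv, ord_one, add_zero]

omit [IsLocallyNoetherian X] [Nrm X] in
theorem algebraMap_specializes {z x : X} (h : z ⤳ x) (a : X.presheaf.stalk x) :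
    algebraMap (X.presheaf.stalk z) X.functionField (X.presheaf.stalkSpecializes h a) =
      algebraMap (X.presheaf.stalk x) X.functionField a := by
  obtain ⟨U, hx, r, rfl⟩ := TopCat.Presheaf.exists_germ_eq X.presheaf a
  rw [TopCat.Presheaf.germ_stalkSpecializes_apply, algebraMap_germ, algebraMap_germ]

/-- If every divisor is Cartier, height one primes of local rings are principal. -/
theorem principal_of_cartier
    (H : ∀ Z : X → ℤ, (∀ x : X, coheight x ≠ 1 → Z x = 0) →
        (∀ x : X, ∃ W : X.Opens, x ∈ W ∧ {z : X | z ∈ W ∧ Z z ≠ 0}.Finite) →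
        ∃ (L : X.Modules) (_ : PicF.IsInvertible L) (s : Cyc.secFibre L (genericPoint X)), s ≠ 0 ∧
          ∀ x : X, coheight x = 1 → Cyc.secOrdAt L (genericPoint X) x (eta_spec x) s = Z x)
    {z x : X} (hz : coheight z = 1) (h : z ⤳ x) :
    ∃ t ∈ nonZeroDivisors (X.presheaf.stalk x), primeOf h = Ideal.span {t} := by
  classical
  obtain ⟨L, hL, s, hs, hord⟩ := H (Pi.single z 1)
    (fun y hy => Pi.single_eq_of_ne (fun e => hy (by rw [e]; exact hz)) _)
    (fun y => ⟨⊤, trivial, (Set.finite_singleton z).subset fun w hw => by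
      by_contra hne
      exact hw.2 (Pi.single_eq_of_ne hne _)⟩)
  have hLr : RefHull.IsRef1 L := by
    have hco := TensorMod.isCoh_of_isInvertible hL
    refine ⟨hco, (ReflStalk.isReflexive_iff hco).2 fun y => ?_, ⊤, ?_, TensorMod.isInvertible_restrict hL _⟩
    · haveI := RefDiv.finite_stalk hco y
      obtain ⟨W, -, hyW, -, e, he⟩ := GenLocus.exists_isFrame hL (W := ⊤) (x := y) trivial
      haveI : Module.Free (X.presheaf.stalk y) (L.presheaf.stalk y) :=
        Module.Free.of_equiv (LinearEquiv.ofBijective (LinearMap.toSpanSingleton _ _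
          (L.presheaf.germ W y hyW e)) (frame_stalk_bijective hyW he))
      show Module.IsReflexive _ _
      infer_instance
    · rw [Opens.coe_top]; exact dense_univ
  obtain ⟨D, -, hD, -, -, ⟨i⟩, hDs⟩ := ref1_structure hLr s hs
  have hDz : ∀ w, coheight w = 1 → D w = Pi.single (M := fun _ => ℤ) z 1 w := fun w hw => by
    rw [← hDs w hw]; exact hord w hw
  obtain ⟨W, -, hxW, -, e, he⟩ :=
    GenLocus.exists_isFrame (TensorMod.isInvertible_of_iso i hL) (W := ⊤) (x := x) trivial
  let c : X.functionField := evK D x ((OD D).presheaf.germ W x hxW e)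
  have hc : ∀ w (hw : w ∈ W), evK D w ((OD D).presheaf.germ W w hw e) = c := fun w hw => by
    rw [evK_germ]; exact (sec_const D e ⟨w, hw⟩ ⟨x, hxW⟩).trans (evK_germ D x hxW e).symm
  have hc0 : c ≠ 0 := fun h0 => by
    have h1 : (OD D).presheaf.germ W x hxW e = 0 := evK_injective D x (h0.trans (map_zero _).symm)
    exact one_ne_zero ((frame_stalk_bijective hxW he).1 (a₁ := 1) (a₂ := 0) (by simp [h1]))
  have hordc : ∀ w, w ∈ W → coheight w = 1 → Scheme.ord c w = -D w := fun w hw hw1 => by
    have h1 : -D w ≤ Scheme.ord c w := by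
      rcases mem_of_evK D w ((OD D).presheaf.germ W w hw e) specializes_rfl hw1 with h | h
      · exact absurd ((hc w hw).symm.trans h) hc0
      · rwa [hc w hw] at h
    obtain ⟨b, hb, hbo⟩ := exists_ord_eq w hw1 (-D w)
    obtain ⟨u, hu⟩ := exists_evK hD w (c := b) fun w' hw' hw'1 => by
      rw [eq_of_specializes_codim_one hw'1 hw1 hw']; exact fun _ => Or.inr hbo.ge
    obtain ⟨a, rfl⟩ := (frame_stalk_bijective hw he).2 u
    rw [map_smul, hc w hw, Algebra.smul_def] at hu
    have ha : algebraMap (X.presheaf.stalk w) X.functionField a ≠ 0 := fun h0 => hb (by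
      rw [← hu, h0, zero_mul])
    have h2 := ord_algebraMap_nonneg a (fun h0 => ha (by rw [h0, map_zero]))
    rw [← hu, Scheme.ord_mul ha hc0] at hbo
    omega
  have hordg : ∀ w, w ⤳ x → coheight w = 1 → Scheme.ord c⁻¹ w = Pi.single (M := fun _ => ℤ) z 1 w := fun w hw hw1 => by
    rw [ord_inv w hc0, hordc w (hw.mem_open W.isOpen hxW) hw1, hDz w hw1, neg_neg]
  have hnn : ∀ w, (0 : ℤ) ≤ Pi.single (M := fun _ => ℤ) z 1 w := fun w => by
    by_cases hwz : w = z
    · subst hwz; simp
    · rw [Pi.single_eq_of_ne hwz]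
  obtain ⟨g, hg⟩ := RingHom.mem_range.1 (mem_range_of_codim_one x c⁻¹ fun w hw hw1 =>
    (mem_range_iff hw1 (inv_ne_zero hc0)).2 (by rw [hordg w hw hw1]; exact hnn w))
  have hgK : algebraMap (X.presheaf.stalk x) X.functionField g ≠ 0 := by rw [hg]; exact inv_ne_zero hc0
  have hg0 : g ≠ 0 := fun h0 => hgK (by rw [h0, map_zero])
  refine ⟨g, mem_nonZeroDivisors_of_ne_zero hg0, le_antisymm (fun a ha => ?_) ?_⟩
  · by_cases ha0 : a = 0
    · rw [ha0]; exact zero_mem _
    have haK : algebraMap (X.presheaf.stalk x) X.functionField a ≠ 0 := fun h0 =>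
      ha0 (IsFractionRing.injective _ X.functionField (h0.trans (map_zero _).symm))
    have hne : algebraMap (X.presheaf.stalk x) X.functionField a * c ≠ 0 := mul_ne_zero haK hc0
    obtain ⟨q, hq⟩ := RingHom.mem_range.1 (mem_range_of_codim_one x
      (algebraMap (X.presheaf.stalk x) X.functionField a * c) fun w hw hw1 => by
        rw [mem_range_iff hw1 hne, Scheme.ord_mul haK hc0, hordc w (hw.mem_open W.isOpen hxW) hw1, hDz w hw1]
        have haw := algebraMap_specializes hw a
        by_cases hwz : w = z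
        · subst hwz
          rw [Pi.single_eq_same]
          have ha1 : X.presheaf.stalkSpecializes hw a ≠ 0 := fun h0 => haK (by
            rw [← haw, h0, map_zero])
          have := ord_algebraMap_pos hw1 _ ha1 ha
          rw [haw] at this
          omega
        · rw [Pi.single_eq_of_ne hwz, ← haw]
          have := ord_algebraMap_nonneg (z := w) (X.presheaf.stalkSpecializes hw a)
            (fun h0 => haK (by rw [← haw, h0, map_zero]))
          omega)
    refine Ideal.mem_span_singleton'.2 ⟨q, IsFractionRing.injective _ X.functionField ?_⟩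
    rw [map_mul, hq, hg, mul_assoc, mul_inv_cancel₀ hc0, mul_one]
  · rw [Ideal.span_singleton_le_iff_mem]
    intro hu
    obtain ⟨u, hu⟩ := hu
    have h1 : Scheme.ord (algebraMap (X.presheaf.stalk x) X.functionField g) z = 0 := by
      rw [← algebraMap_specializes h g, ← hu, ord_units]
    rw [hg, hordg z h hz, Pi.single_eq_same] at h1
    exact one_ne_zero h1

theorem cartier_iff :
    (∀ Z : X → ℤ, (∀ x : X, coheight x ≠ 1 → Z x = 0) →
        (∀ x : X, ∃ W : X.Opens, x ∈ W ∧ {z : X | z ∈ W ∧ Z z ≠ 0}.Finite) →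
        ∃ (L : X.Modules) (_ : PicF.IsInvertible L) (s : Cyc.secFibre L (genericPoint X)), s ≠ 0 ∧
          ∀ x : X, coheight x = 1 → Cyc.secOrdAt L (genericPoint X) x (eta_spec x) s = Z x) ↔
      ∀ x : X, UniqueFactorizationMonoid (X.presheaf.stalk x) := by
  refine ⟨fun H x => ufd_of_principalHeightOne fun P hP h1 => ?_, fun hufd Z _ hfin => exists_cartier hufd Z hfin⟩
  haveI := hP
  obtain ⟨z, hzx, rfl⟩ := exists_primeOf x P
  refine principal_of_cartier H ?_ hzx
  have e := ringKrullDim_eq_height hzx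
  rw [ringKrullDim_stalk_eq_coheight, h1] at e
  exact WithBot.coe_eq_coe.1 e

end Groth.Agent.CodimOne
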