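import Groth.Agent.CodimOne.Points

/-!
# Locally factorial schemes and principal primes of height one
-/

set_option autoImplicit false
set_option linter.style.haveILetI false

noncomputable section

universe u

open CategoryTheory AlgebraicGeometry TopologicalSpace

namespace Groth.Agent.CodimOne

variable (R : Type u) [CommRing R]

/-- primes of height one are generated by regular elements -/
def PrincipalHeightOne : Prop :=
  ∀ P : Ideal R, P.IsPrime → P.height = 1 → ∃ t ∈ nonZeroDivisors R, P = Ideal.span {t}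

variable {R} [IsNoetherianRing R]

theorem isDomain_of_principalHeightOne [IsLocalRing R] (h : PrincipalHeightOne R)
    (hd : (1 : WithBot ℕ∞) ≤ ringKrullDim R) : IsDomain R := by
  classical
  obtain ⟨a, ham, hamin⟩ : ∃ a ∈ IsLocalRing.maximalIdeal R, ∀ q ∈ minimalPrimes R, a ∉ q := by
    by_contra hcon
    push Not at hcon
    have hsub : ((IsLocalRing.maximalIdeal R : Ideal R) : Set R) ⊆
        ⋃ q ∈ ((minimalPrimes.finite_of_isNoetherianRing R).toFinset : Set (Ideal R)), (q : Set R) := fun a ha => by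
      obtain ⟨q, hq, haq⟩ := hcon a ha
      exact Set.mem_biUnion (by simpa using hq) haq
    obtain ⟨q, hq, hle⟩ := (Ideal.subset_union_prime (⊥ : Ideal R) (⊥ : Ideal R) fun q hq _ _ =>
      ((Set.Finite.mem_toFinset _).1 hq).1.1).1 hsub
    haveI := ((Set.Finite.mem_toFinset _).1 hq).1.1
    have hmin : IsLocalRing.maximalIdeal R ∈ minimalPrimes R := by
      rw [le_antisymm hle (IsLocalRing.le_maximalIdeal Ideal.IsPrime.ne_top')]
      exact (Set.Finite.mem_toFinset _).1 hq
    rw [← IsLocalRing.maximalIdeal_height_eq_ringKrullDim, Ideal.height_eq_zero_iff.2 hmin] at hd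
    exact absurd hd (by decide)
  obtain ⟨P, hP, -⟩ := Ideal.exists_minimalPrimes_le (I := Ideal.span {a})
    ((Ideal.span_singleton_le_iff_mem _).2 ham)
  haveI := hP.1.1
  have haP : a ∈ P := hP.1.2 (Ideal.mem_span_singleton_self a)
  have hnmin : P ∉ minimalPrimes R := fun hm => hamin P hm haP
  have hP1 : P.height = 1 := le_antisymm (Ideal.height_le_one_of_isPrincipal_of_mem_minimalPrimes _ P hP)
    (ENat.one_le_iff_ne_zero.2 fun h0 => hnmin (Ideal.height_eq_zero_iff.1 h0))
  obtain ⟨t, ht, rfl⟩ := h P inferInstance hP1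
  obtain ⟨q, hq, hqP⟩ := Ideal.exists_minimalPrimes_le (I := (⊥ : Ideal R)) (J := Ideal.span {t}) bot_le
  haveI := hq.1.1
  have htq : t ∉ q := fun htq => hnmin
    ((le_antisymm ((Ideal.span_singleton_le_iff_mem _).2 htq) hqP : Ideal.span {t} = q) ▸ hq)
  have hle : q ≤ Ideal.span {t} • q := fun x hx => by
    obtain ⟨r, rfl⟩ := Ideal.mem_span_singleton'.1 (hqP hx)
    rw [mul_comm]
    exact Submodule.smul_mem_smul (Ideal.mem_span_singleton_self t)
      ((Ideal.IsPrime.mem_or_mem ‹q.IsPrime› hx).resolve_right htq)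
  have hq0 : q = ⊥ := Submodule.eq_bot_of_le_smul_of_le_jacobson_bot _ q (IsNoetherian.noetherian q) hle
    (((Ideal.span_singleton_le_iff_mem _).2 (IsLocalRing.le_maximalIdeal Ideal.IsPrime.ne_top'
      (Ideal.mem_span_singleton_self t))).trans (IsLocalRing.jacobson_eq_maximalIdeal ⊥ bot_ne_top).ge)
  haveI : (⊥ : Ideal R).IsPrime := hq0 ▸ ‹q.IsPrime›
  exact IsDomain.of_bot_isPrime R

theorem ufd_of_principalHeightOne [IsDomain R] (h : PrincipalHeightOne R) : UniqueFactorizationMonoid R := by
  rw [UniqueFactorizationMonoid.iff_exists_prime_mem_of_isPrime]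
  intro Q hQ hQp
  obtain ⟨a, haQ, ha⟩ := Submodule.exists_mem_ne_zero_of_ne_bot hQ
  obtain ⟨P, hP, hPQ⟩ := Ideal.exists_minimalPrimes_le (I := Ideal.span {a})
    ((Ideal.span_singleton_le_iff_mem _).2 haQ)
  haveI := hP.1.1
  have hP0 : P ≠ ⊥ := fun h0 => ha (by
    simpa [h0] using hP.1.2 (Ideal.mem_span_singleton_self a))
  have hP1 : P.height = 1 := le_antisymm (Ideal.height_le_one_of_isPrincipal_of_mem_minimalPrimes _ P hP)
    (ENat.one_le_iff_ne_zero.2 fun h0 => hP0 (by
      have hm := Ideal.height_eq_zero_iff.1 h0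
      rwa [IsDomain.minimalPrimes_eq_singleton_bot, Set.mem_singleton_iff] at hm))
  obtain ⟨t, ht, rfl⟩ := h P inferInstance hP1
  exact ⟨t, hPQ (Ideal.mem_span_singleton_self t),
    (Ideal.span_singleton_prime (nonZeroDivisors.ne_zero ht)).1 inferInstance⟩

omit [IsNoetherianRing R] in
theorem principalHeightOne_of_ufd [IsDomain R] [UniqueFactorizationMonoid R] : PrincipalHeightOne R := by
  intro P hP h1
  haveI := hP
  have hP0 : P ≠ ⊥ := fun h => by rw [h, Ideal.height_bot] at h1; exact zero_ne_one h1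
  obtain ⟨π, hπP, hπ⟩ := Ideal.IsPrime.exists_mem_prime_of_ne_bot hP hP0
  refine ⟨π, mem_nonZeroDivisors_of_ne_zero hπ.ne_zero, ?_⟩
  haveI : (Ideal.span {π}).IsPrime := (Ideal.span_singleton_prime hπ.ne_zero).2 hπ
  by_contra hne
  have hlt : Ideal.span {π} < P :=
    lt_of_le_of_ne ((Ideal.span_singleton_le_iff_mem _).2 hπP) (Ne.symm hne)
  haveI : P.FiniteHeight := ⟨Or.inr (by rw [h1]; exact ENat.one_ne_top)⟩
  haveI : (Ideal.span {π}).FiniteHeight := Ideal.finiteHeight_iff_lt.2 <| Or.inr <| by
    exact (Ideal.height_mono hlt.le).trans_lt (by rw [h1]; exact ENat.one_lt_top)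
  have h0 := Ideal.height_strict_mono_of_isPrime hlt
  rw [h1, Order.lt_one_iff, Ideal.height_eq_zero_iff, IsDomain.minimalPrimes_eq_singleton_bot,
    Set.mem_singleton_iff, Ideal.span_singleton_eq_bot] at h0
  exact hπ.ne_zero h0

/-- Locally factorial locally noetherian schemes. -/
theorem codimOne_principal_iff (X : Scheme.{u}) [IsLocallyNoetherian X]
    (hred : ∀ x : X, IsOpen ({x} : Set X) → IsReduced (X.presheaf.stalk x)) :
    (∀ ζ : X, ringKrullDim (X.presheaf.stalk ζ) = 1 → ∀ (x : X) (h : ζ ⤳ x),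
        ∃ t : X.presheaf.stalk x, t ∈ nonZeroDivisors (X.presheaf.stalk x) ∧ primeOf h = Ideal.span {t}) ↔
      ∀ x : X, ∃ _ : IsDomain (X.presheaf.stalk x), UniqueFactorizationMonoid (X.presheaf.stalk x) := by
  constructor
  · intro H x
    have hp : ∀ y : X, PrincipalHeightOne (X.presheaf.stalk y) := fun y P hP h1 => by
      haveI := hP
      obtain ⟨z, hz, rfl⟩ := exists_primeOf y P
      obtain ⟨t, ht, e⟩ := H z (by rw [ringKrullDim_eq_height hz, h1]; rfl) y hz
      exact ⟨t, ht, e⟩
    have hdom : IsDomain (X.presheaf.stalk x) := by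
      by_cases h0 : (1 : WithBot ℕ∞) ≤ ringKrullDim (X.presheaf.stalk x)
      · exact isDomain_of_principalHeightOne (hp x) h0
      · by_cases hy : ∃ y, x ⤳ y ∧ x ≠ y
        · obtain ⟨y, hxy, hne⟩ := hy
          haveI := isDomain_of_principalHeightOne (hp y) (one_le_ringKrullDim hxy hne)
          obtain ⟨q, hq, ⟨e⟩⟩ := SpecPt.exists_atPrime_equiv hxy
          haveI : IsDomain (Localization.AtPrime q) :=
            IsLocalization.isDomain_localization q.primeCompl_le_nonZeroDivisors
          exact e.symm.injective.isDomain e.symm.toRingHom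
        · push Not at hy
          have hc : IsClosed ({x} : Set X) := closure_eq_iff_isClosed.1 (subset_antisymm
            (fun y hy' => (hy y (specializes_iff_mem_closure.2 hy')).symm) subset_closure)
          have hd : ringKrullDim (X.presheaf.stalk x) = 0 := by
            rw [← IsLocalRing.maximalIdeal_height_eq_ringKrullDim] at h0 ⊢
            have : ¬ (1 : ℕ∞) ≤ (IsLocalRing.maximalIdeal (X.presheaf.stalk x)).height :=
              fun h => h0 (WithBot.coe_le_coe.2 h)
            rw [not_le, Order.lt_one_iff] at this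
            rw [this]; rfl
          haveI := hred x (isOpen_singleton hc hd)
          haveI : Ring.KrullDimLE 0 (X.presheaf.stalk x) := Ring.krullDimLE_iff.2 hd.le
          exact (Ring.KrullDimLE.isField_of_isReduced (R := X.presheaf.stalk x)).isDomain
    exact ⟨hdom, ufd_of_principalHeightOne (hp x)⟩
  · intro H ζ hζ x h
    obtain ⟨_, _⟩ := H x
    haveI : (primeOf h).IsPrime := Ideal.IsPrime.comap _
    obtain ⟨t, ht, e⟩ := principalHeightOne_of_ufd (R := X.presheaf.stalk x) (primeOf h) inferInstance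
      (WithBot.coe_eq_coe.1 ((ringKrullDim_eq_height h).symm.trans hζ))
    exact ⟨t, ht, e⟩

end Groth.Agent.CodimOne
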