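import Groth.Agent.CycLib.DimFun
import Groth.Agent.AssPts.Basic
import Groth.Agent.DivPts.Basic
import Groth.Agent.SpecPt.Generalize

/-!
# Points corresponding to primes of a local ring
-/

set_option autoImplicit false
set_option linter.style.haveILetI false

noncomputable section

universe u

open CategoryTheory AlgebraicGeometry TopologicalSpace

namespace Groth.Agent.CodimOne

variable {X : Scheme.{u}}

/-- The prime of a generization. -/
abbrev primeOf {z x : X} (h : z ⤳ x) : Ideal (X.presheaf.stalk x) :=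
  (IsLocalRing.maximalIdeal (X.presheaf.stalk z)).comap (X.presheaf.stalkSpecializes h).hom

theorem specPrime_eq {z x : X} (h : z ⤳ x) : (CycLib.specPrime h).asIdeal = primeOf h := by
  show RingHom.ker ((X.residue z).hom.comp (X.presheaf.stalkSpecializes h).hom) = _
  rw [← RingHom.comap_ker]
  exact congrArg (Ideal.comap _) Ideal.mk_ker

theorem exists_primeOf (x : X) (P : Ideal (X.presheaf.stalk x)) [hP : P.IsPrime] :
    ∃ (z : X) (h : z ⤳ x), primeOf h = P := by
  let a : PrimeSpectrum (X.presheaf.stalk x) := ⟨P, hP⟩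
  refine ⟨_, CycLib.fromSpecStalk_specializes a, ?_⟩
  rw [← specPrime_eq]
  exact congrArg PrimeSpectrum.asIdeal ((X.fromSpecStalk x).isEmbedding.injective
    (CycLib.fromSpecStalk_specPrime (CycLib.fromSpecStalk_specializes a)))

/-- The local ring at a generization has the dimension of its prime. -/
theorem ringKrullDim_eq_height {z x : X} (h : z ⤳ x) :
    ringKrullDim (X.presheaf.stalk z) = (primeOf h).height := by
  obtain ⟨_, ⟨U, hU, rfl⟩, hxU, -⟩ :=
    X.isBasis_affineOpens.exists_subset_of_mem_open (Set.mem_univ x) isOpen_univ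
  have hzU := h.mem_open U.isOpen hxU
  letI : Algebra Γ(X, U) (X.presheaf.stalk x) := (X.presheaf.germ U x hxU).hom.toAlgebra
  haveI : IsLocalization.AtPrime (X.presheaf.stalk x) (hU.primeIdealOf ⟨x, hxU⟩).asIdeal :=
    hU.isLocalization_stalk ⟨x, hxU⟩
  have hcomap : (primeOf h).comap (algebraMap Γ(X, U) (X.presheaf.stalk x)) =
      (hU.primeIdealOf ⟨z, hzU⟩).asIdeal := by
    ext g
    rw [AssPts.mem_prime_iff hU z hzU g, ← TopCat.Presheaf.germ_stalkSpecializes_apply X.presheaf hxU h g]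
    rfl
  rw [DivPts.ringKrullDim_stalk_eq_height ⟨U, hU⟩ hzU, ← hcomap]
  exact congrArg WithBot.some (IsLocalization.height_under (hU.primeIdealOf ⟨x, hxU⟩).asIdeal.primeCompl _)

theorem primeOf_lt {z x : X} (h : z ⤳ x) (hne : z ≠ x) :
    primeOf h < IsLocalRing.maximalIdeal (X.presheaf.stalk x) := by
  refine lt_of_le_of_ne (IsLocalRing.le_maximalIdeal (Ideal.IsPrime.comap _).ne_top) fun e => hne ?_
  have hsp : CycLib.specPrime h = IsLocalRing.closedPoint (X.presheaf.stalk x) :=
    PrimeSpectrum.ext ((specPrime_eq h).trans e)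
  rw [← CycLib.fromSpecStalk_specPrime h, hsp, Scheme.fromSpecStalk_closedPoint]

theorem one_le_ringKrullDim {z x : X} (h : z ⤳ x) (hne : z ≠ x) :
    (1 : WithBot ℕ∞) ≤ ringKrullDim (X.presheaf.stalk x) := by
  haveI : (primeOf h).IsPrime := Ideal.IsPrime.comap _
  rw [← IsLocalRing.maximalIdeal_height_eq_ringKrullDim]
  refine WithBot.coe_le_coe.2 ?_
  rw [ENat.one_le_iff_ne_zero]
  intro h0
  have hmin := Ideal.height_eq_zero_iff.1 h0
  exact (primeOf_lt h hne).not_ge (hmin.2 ⟨inferInstance, bot_le⟩ (primeOf_lt h hne).le)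

/-- A closed point of dimension zero of a locally noetherian scheme is isolated. -/
theorem isOpen_singleton [IsLocallyNoetherian X] {x : X} (hc : IsClosed ({x} : Set X))
    (hd : ringKrullDim (X.presheaf.stalk x) = 0) : IsOpen ({x} : Set X) := by
  classical
  obtain ⟨_, ⟨U, hU, rfl⟩, hxU, -⟩ :=
    X.isBasis_affineOpens.exists_subset_of_mem_open (Set.mem_univ x) isOpen_univ
  haveI : IsNoetherianRing Γ(X, U) := IsLocallyNoetherian.component_noetherian ⟨U, hU⟩
  let p := (hU.primeIdealOf ⟨x, hxU⟩).asIdeal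
  haveI : p.IsPrime := (hU.primeIdealOf ⟨x, hxU⟩).isPrime
  have hp : p ∈ minimalPrimes Γ(X, U) := by
    rw [DivPts.ringKrullDim_stalk_eq_height ⟨U, hU⟩ hxU] at hd
    exact Ideal.height_eq_zero_iff.1 (WithBot.coe_eq_coe.1 hd)
  let others := (minimalPrimes.finite_of_isNoetherianRing Γ(X, U)).toFinset.erase p
  have hq : ∀ q ∈ others, ∃ g ∈ q, g ∉ p := fun q hq => by
    obtain ⟨hne, hqm⟩ := Finset.mem_erase.1 hq
    rw [Set.Finite.mem_toFinset] at hqm
    by_contra hcon
    push Not at hcon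
    exact hne (le_antisymm hcon (hp.2 hqm.1 hcon))
  choose g hgq hgp using hq
  let G := ∏ q ∈ others.attach, g q.1 q.2
  have hGp : G ∉ p := fun hG => by
    obtain ⟨q, -, hq⟩ := (Ideal.IsPrime.prod_mem_iff (p := p)).1 hG
    exact hgp _ q.2 hq
  have e : (X.basicOpen G : Set X) = {x} := by
    refine Set.eq_singleton_iff_unique_mem.2 ⟨(X.mem_basicOpen G x hxU).2
      ((AssPts.notMem_prime_iff hU x hxU G).1 hGp), fun y hy => ?_⟩
    have hyU : y ∈ U := X.basicOpen_le G hy
    have hGy : G ∉ (hU.primeIdealOf ⟨y, hyU⟩).asIdeal :=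
      (AssPts.notMem_prime_iff hU y hyU G).2 ((X.mem_basicOpen G y hyU).1 hy)
    haveI := (hU.primeIdealOf ⟨y, hyU⟩).isPrime
    obtain ⟨q, hqmin, hqy⟩ := Ideal.exists_minimalPrimes_le
      (I := (⊥ : Ideal Γ(X, U))) (J := (hU.primeIdealOf ⟨y, hyU⟩).asIdeal) bot_le
    by_cases hqp : q = p
    · subst hqp
      exact hc.closure_eq.le (specializes_iff_mem_closure.1 ((AssPts.specializes_iff hU y hyU hxU).2 hqy))
    · have hmem : q ∈ others := Finset.mem_erase.2 ⟨hqp, (Set.Finite.mem_toFinset _).2 hqmin⟩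
      exact absurd (hqy (Ideal.mem_of_dvd _ (Finset.dvd_prod_of_mem _ (Finset.mem_attach _ ⟨q, hmem⟩))
        (hgq q hmem))) hGy
  rw [← e]
  exact (X.basicOpen G).isOpen

end Groth.Agent.CodimOne
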