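import Groth.Agent.ParaFUFD.Punctured
import Groth.Agent.GrassLib.Nagata
import Groth.Agent.GenLocus.PullFrame
import Groth.Agent.ParaFUFD.Criterion

/-!
# Ideals invertible on the punctured spectrum
-/

set_option autoImplicit false
set_option backward.isDefEq.respectTransparency false
set_option backward.isDefEq.respectTransparency.types false
set_option linter.style.haveILetI false

noncomputable section

universe u

open CategoryTheory AlgebraicGeometry TopologicalSpace Opposite
open Groth.Agent.QCohBase Groth.Agent.GenLocus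

namespace Groth.Agent.CodimOne

open Groth.Agent.ParaFUFD

variable {A : Type u} [CommRing A] [IsDomain A] [IsNoetherianRing A] [IsLocalRing A]

local notation "P" => Spec (CommRingCat.of A)

/-- An ideal invertible on the punctured spectrum, with trivial Picard group there, has a generator there. -/
theorem exists_generator_of_punctured (hd : (2 : ℕ∞) ≤ LocCoh.depth A A)
    (hpic : ParaF.PicTrivial (FEt.puncturedSpec A : Scheme.{u})) (I : Ideal A)
    (key : ∀ p : PrimeSpectrum A, p ≠ IsLocalRing.closedPoint A → ∃ (f : A) (g : I),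
      f ∉ p.asIdeal ∧ (g : A) ≠ 0 ∧ (PrimeSpectrum.basicOpen f : (P).Opens) ≤ FEt.puncturedSpec A ∧
        ∀ z ∈ I, (g : A) ∣ f * z) :
    ∃ a : A, ∀ p : PrimeSpectrum A, p ≠ IsLocalRing.closedPoint A →
      (∃ s ∉ p.asIdeal, s * a ∈ I) ∧ ∃ (s : A) (f : A) (g : I), s ∉ p.asIdeal ∧ f ∉ p.asIdeal ∧ (g : A) ≠ 0 ∧
        a ∣ s * (g : A) ∧ ∀ z ∈ I, (g : A) ∣ f * z := by
  classical
  set U := FEt.puncturedSpec A
  set M := tilde (ModuleCat.of (CommRingCat.of A) I)
  choose f g hfp hg0 hfU hgen using key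
  -- the invertible module
  have hL : PicF.IsInvertible (M.restrict U.ι) := by
    refine ParaFLib.isInvertible_of_local fun x => ?_
    let D : (P).Opens := PrimeSpectrum.basicOpen (f x.1 x.2)
    obtain ⟨i⟩ := nonempty_iso_of_isFrame (isFrame_sec (hg0 x.1 x.2) (hgen x.1 x.2))
    have hx : (x.1 : P) ∈ D := hfp x.1 x.2
    have e : D.ι = (Spec (CommRingCat.of A)).homOfLE (hfU x.1 x.2) ≫ U.ι := (Scheme.homOfLE_ι _ _).symm
    refine ⟨D.toScheme, (Spec (CommRingCat.of A)).homOfLE (hfU x.1 x.2), inferInstance, ⟨x.1, hx⟩, Subtype.ext ?_, ?_⟩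
    · show (((Spec (CommRingCat.of A)).homOfLE (hfU x.1 x.2)) ⟨x.1, hx⟩).1 = x.1
      simp
    refine TensorMod.isInvertible_of_iso (L := Coh.structureModule D.toScheme) ?_ fun y => ⟨⊤, trivial,
      ⟨Scheme.Modules.restrictUnitIso (⊤ : D.toScheme.Opens).ι⟩⟩
    exact i.symm ≪≫ (Scheme.Modules.restrictFunctorCongr e).app M ≪≫
      (Scheme.Modules.restrictFunctorComp _ U.ι).app M
  obtain ⟨iL⟩ := hpic _ hL
  obtain ⟨e, he⟩ := exists_isFrame_of_triv iL
  obtain ⟨a, ha⟩ := (ores_punctured_bijective hd).2 ((idealHom A I).app U e)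
  obtain ⟨a, rfl⟩ := (Scheme.ΓSpecIso (CommRingCat.of A)).commRingCatIsoToRingEquiv.symm.surjective a
  have ha' : glo U a = (idealHom A I).app U e := ha
  have hloc : ∀ p (hp : p ≠ IsLocalRing.closedPoint A),
      (∃ s ∉ p.asIdeal, s * a ∈ I) ∧ ∃ s ∉ p.asIdeal, a ∣ s * (g p hp : A) := by
    intro p hp
    set D : (P).Opens := PrimeSpectrum.basicOpen (f p hp)
    have hf0 : f p hp ≠ 0 := fun h => hfp p hp (h ▸ Ideal.zero_mem _)
    have happ : (idealHom A I).app D (mres M (hfU p hp) e) = glo D a := by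
      rw [← ores_glo (hfU p hp) a, ha']
      exact (GenLocus.app_mres (idealHom A I) (hfU p hp) e).symm
    constructor
    · obtain ⟨t, ht⟩ := (isFrame_sec (hg0 p hp) (hgen p hp)).bijective.2 (mres M (hfU p hp) e)
      obtain ⟨r, n, hr⟩ := exists_glo_mul _ t
      refine ⟨f p hp ^ n, fun h => hfp p hp (p.isPrime.mem_of_pow_mem _ h), ?_⟩
      have h2 := congrArg ((idealHom A I).app D) ht
      simp only at h2
      rw [Scheme.Modules.Hom.app_smul, idealHom_sec, happ] at h2
      have : f p hp ^ n * a = r * g p hp := glo_injective (basicOpen_nonempty hf0) (by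
        rw [glo_mul, glo_mul, ← h2, ← hr]
        show glo D _ * (t * glo D _) = t * glo D _ * glo D _
        ring)
      rw [this]
      exact Ideal.mul_mem_left _ _ (g p hp).2
    · obtain ⟨t, ht⟩ := (he.res (hfU p hp)).bijective.2 (sec D (g p hp))
      obtain ⟨r, n, hr⟩ := exists_glo_mul _ t
      refine ⟨f p hp ^ n, fun h => hfp p hp (p.isPrime.mem_of_pow_mem _ h), r, ?_⟩
      have h2 := congrArg ((idealHom A I).app D) ht
      simp only at h2
      rw [Scheme.Modules.Hom.app_smul, idealHom_sec, happ] at h2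
      refine glo_injective (basicOpen_nonempty hf0) ?_
      rw [glo_mul, glo_mul, ← h2, ← hr]
      show glo D _ * (t * glo D _) = glo D _ * (t * glo D _)
      ring
  refine ⟨a, fun p hp => ⟨(hloc p hp).1, ?_⟩⟩
  obtain ⟨s, hs, hsg⟩ := (hloc p hp).2
  exact ⟨s, f p hp, g p hp, hs, hfp p hp, hg0 p hp, hsg, hgen p hp⟩

end Groth.Agent.CodimOne
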