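import Groth.Agent.CodimOne.Divisors
import Groth.Agent.CodimOne.Punctured
import Groth.Agent.S2824
import Groth.Agent.S2822

/-!
# Divisors principal at some points of a scheme with parafactorial local rings elsewhere
-/

set_option autoImplicit false
set_option linter.style.haveILetI false
set_option backward.isDefEq.respectTransparency.types false

noncomputable section

universe u

open CategoryTheory AlgebraicGeometry TopologicalSpace Order Opposite
open Groth.Agent.RefDiv

namespace Groth.Agent.CodimOne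

variable {X : Scheme.{u}}

theorem specializes_of_le {z y x : X} (hz : z ⤳ x) (hy : y ⤳ x) (h : primeOf hz ≤ primeOf hy) : z ⤳ y := by
  rw [← CycLib.fromSpecStalk_specPrime hz, ← CycLib.fromSpecStalk_specPrime hy, CycLib.specializes_iff_le]
  show (CycLib.specPrime hz).asIdeal ≤ (CycLib.specPrime hy).asIdeal
  rw [specPrime_eq, specPrime_eq]
  exact h

variable [IsIntegral X]

theorem exists_frac {y x : X} (hy : y ⤳ x) (q : X.presheaf.stalk y) :
    ∃ a s : X.presheaf.stalk x, s ∉ primeOf hy ∧
      q * X.presheaf.stalkSpecializes hy s = X.presheaf.stalkSpecializes hy a := by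
  obtain ⟨_, ⟨U, hU, rfl⟩, hxU, -⟩ :=
    X.isBasis_affineOpens.exists_subset_of_mem_open (Set.mem_univ x) isOpen_univ
  have hyU := hy.mem_open U.isOpen hxU
  obtain ⟨g, r, hg, h⟩ := AssPts.exists_ringGerm_mul_eq hU y hyU q
  refine ⟨X.presheaf.germ U x hxU r, X.presheaf.germ U x hxU g, fun hmem => hmem ?_, ?_⟩
  · rw [TopCat.Presheaf.germ_stalkSpecializes_apply]
    exact (AssPts.notMem_prime_iff hU y hyU g).1 hg
  · rw [TopCat.Presheaf.germ_stalkSpecializes_apply, TopCat.Presheaf.germ_stalkSpecializes_apply]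
    exact h

theorem algebraMap_ne_zero {x : X} {a : X.presheaf.stalk x} (ha : a ≠ 0) :
    algebraMap (X.presheaf.stalk x) X.functionField a ≠ 0 := fun h =>
  ha (IsFractionRing.injective _ X.functionField (h.trans (map_zero _).symm))

variable [IsLocallyNoetherian X] [Nrm X]

omit [IsLocallyNoetherian X] [Nrm X] in
theorem ne_zero_of_notMem {z x : X} (hz : z ⤳ x) {s : X.presheaf.stalk x} (hs : s ∉ primeOf hz) : s ≠ 0 :=
  fun h0 => hs (h0 ▸ zero_mem _)

theorem ord_eq_zero_of_notMem {z x : X} (hz : z ⤳ x) {s : X.presheaf.stalk x} (hs : s ∉ primeOf hz) :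
    Scheme.ord (algebraMap (X.presheaf.stalk x) X.functionField s) z = 0 := by
  rw [← algebraMap_specializes hz s]
  obtain ⟨v, hv⟩ : IsUnit (X.presheaf.stalkSpecializes hz s) := not_not.1 hs
  rw [← hv, ord_units]

theorem ord_nonneg {z x : X} (hz : z ⤳ x) {a : X.presheaf.stalk x} (ha : a ≠ 0) :
    0 ≤ Scheme.ord (algebraMap (X.presheaf.stalk x) X.functionField a) z := by
  rw [← algebraMap_specializes hz a]
  refine ord_algebraMap_nonneg _ fun h0 => algebraMap_ne_zero ha ?_
  rw [← algebraMap_specializes hz a, h0, map_zero]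

theorem one_le_ord {z x : X} (hz : z ⤳ x) (hz1 : coheight z = 1) {a : X.presheaf.stalk x} (ha : a ≠ 0)
    (hmem : a ∈ primeOf hz) : 1 ≤ Scheme.ord (algebraMap (X.presheaf.stalk x) X.functionField a) z := by
  rw [← algebraMap_specializes hz a]
  refine ord_algebraMap_pos hz1 _ (fun h0 => algebraMap_ne_zero ha ?_) hmem
  rw [← algebraMap_specializes hz a, h0, map_zero]

theorem le_ord_pow {z x : X} (hz : z ⤳ x) (hz1 : coheight z = 1) {a : X.presheaf.stalk x} (ha : a ≠ 0)
    (hmem : a ∈ primeOf hz) (n : ℕ) :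
    (n : ℤ) ≤ Scheme.ord (algebraMap (X.presheaf.stalk x) X.functionField (a ^ n)) z := by
  induction n with
  | zero => rw [pow_zero, map_one, ord_one]; simp
  | succ m ih =>
    rw [pow_succ, map_mul, Scheme.ord_mul (algebraMap_ne_zero (pow_ne_zero m ha)) (algebraMap_ne_zero ha)]
    have := one_le_ord hz hz1 ha hmem
    rw [Nat.cast_succ]
    omega

/-- `Z` is principal near `x`. -/
def PrincipalAt (Z : X → ℤ) (x : X) : Prop :=
  ∃ f : X.functionField, f ≠ 0 ∧ ∀ z : X, coheight z = 1 → z ⤳ x → Z z = Scheme.ord f z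

theorem principalAt_of_dim_le_one (Z : X → ℤ) {x : X} (h : ringKrullDim (X.presheaf.stalk x) ≤ 1) :
    PrincipalAt Z x := by
  have key : ∀ z : X, coheight z = 1 → z ⤳ x → z = x := fun z hz hzx => by
    by_contra hne
    have h1 : (primeOf hzx).height < (IsLocalRing.maximalIdeal (X.presheaf.stalk x)).height := by
      haveI : (primeOf hzx).IsPrime := Ideal.IsPrime.comap _
      exact Ideal.height_strict_mono_of_isPrime (primeOf_lt hzx hne)
    have h2 := ringKrullDim_eq_height hzx
    rw [ringKrullDim_stalk_eq_coheight, hz] at h2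
    rw [← WithBot.coe_eq_coe.1 h2] at h1
    rw [← IsLocalRing.maximalIdeal_height_eq_ringKrullDim] at h
    exact absurd (WithBot.coe_le_coe.1 h) (not_le.2 h1)
  by_cases hx : coheight x = 1
  · obtain ⟨c, hc, hcx⟩ := exists_ord_eq x hx (Z x)
    exact ⟨c, hc, fun z hz hzx => by rw [key z hz hzx]; exact hcx.symm⟩
  · exact ⟨1, one_ne_zero, fun z hz hzx => absurd (key z hz hzx ▸ hz) hx⟩

/-- The main step: from all proper generizations to the point. -/
theorem principalAt_of_generizations (Z : X → ℤ) (hZ : LocFin Z) {x : X}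
    (hdim : (2 : WithBot ℕ∞) ≤ ringKrullDim (X.presheaf.stalk x))
    (hpar : ParaF.IsParafactorialLocalRing (X.presheaf.stalk x))
    (ih : ∀ y : X, y ⤳ x → y ≠ x → PrincipalAt Z y) : PrincipalAt Z x := by
  classical
  obtain ⟨_, ⟨U, hU, rfl⟩, hxU, -⟩ :=
    X.isBasis_affineOpens.exists_subset_of_mem_open (Set.mem_univ x) isOpen_univ
  have hUgen : ∀ z : X, z ⤳ x → z ∈ U := fun z h => h.mem_open U.isOpen hxU
  -- a function clearing the poles
  let S₀ := (finite_bad hZ hU).toFinset.filter fun z => z ⤳ x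
  have hS₀ : ∀ z ∈ S₀, z ⤳ x := fun z hz => (Finset.mem_filter.1 hz).2
  have hS₀' : ∀ z ∈ S₀, coheight z = 1 := fun z hz =>
    ((Set.Finite.mem_toFinset _).1 (Finset.mem_filter.1 hz).1).2.1
  have ht : ∀ z (hz : z ∈ S₀), ∃ t ∈ primeOf (hS₀ z hz), t ≠ 0 := fun z hz => by
    refine Submodule.exists_mem_ne_zero_of_ne_bot fun h0 => ?_
    have e := ringKrullDim_eq_height (hS₀ z hz)
    rw [h0, Ideal.height_bot, ringKrullDim_stalk_eq_coheight, hS₀' z hz] at e
    exact one_ne_zero (WithBot.coe_eq_coe.1 e)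
  choose t htmem ht0 using ht
  let c : (X.presheaf.stalk x) := ∏ z ∈ S₀.attach, t z.1 z.2 ^ (Z z.1).natAbs
  have hc0 : c ≠ 0 := Finset.prod_ne_zero_iff.2 fun z _ => pow_ne_zero _ (ht0 _ _)
  let E : X → ℤ := fun z => Z z + Scheme.ord ((algebraMap (X.presheaf.stalk x) X.functionField) c) z
  have hE : LocFin E := hZ.add (locFin_ord ((algebraMap (X.presheaf.stalk x) X.functionField) c))
  have hE0 : ∀ z, z ⤳ x → coheight z = 1 → 0 ≤ E z := fun z hz hz1 => by
    show 0 ≤ Z z + Scheme.ord ((algebraMap (X.presheaf.stalk x) X.functionField) c) z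
    by_cases hzS : z ∈ S₀
    · have hspl : c = t z hzS ^ (Z z).natAbs *
          ∏ w ∈ S₀.attach.erase ⟨z, hzS⟩, t w.1 w.2 ^ (Z w.1).natAbs :=
        (Finset.mul_prod_erase _ (fun w : S₀ => t w.1 w.2 ^ (Z w.1).natAbs) (Finset.mem_attach _ ⟨z, hzS⟩)).symm
      have hne1 : t z hzS ^ (Z z).natAbs ≠ 0 := pow_ne_zero _ (ht0 _ _)
      have hne2 : ∏ w ∈ S₀.attach.erase ⟨z, hzS⟩, t w.1 w.2 ^ (Z w.1).natAbs ≠ 0 :=
        Finset.prod_ne_zero_iff.2 fun w _ => pow_ne_zero _ (ht0 _ _)
      have h1 := le_ord_pow hz hz1 (ht0 z hzS) (htmem z hzS) (Z z).natAbs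
      have h2 := ord_nonneg hz hne2
      rw [hspl, map_mul, Scheme.ord_mul (algebraMap_ne_zero hne1) (algebraMap_ne_zero hne2)]
      omega
    · have hz0 : Z z = 0 := by
        by_contra hne
        exact hzS (Finset.mem_filter.2 ⟨(Set.Finite.mem_toFinset _).2 ⟨hUgen z hz, hz1, hne⟩, hz⟩)
      rw [hz0, zero_add]
      exact ord_nonneg hz hc0
  -- the ideal
  let I : Ideal (X.presheaf.stalk x) :=
    { carrier := {r | ∀ z, z ⤳ x → Mem (-E) z ((algebraMap (X.presheaf.stalk x) X.functionField) r)}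
      zero_mem' := fun z _ _ => Or.inl (map_zero (algebraMap (X.presheaf.stalk x) X.functionField))
      add_mem' := fun {a b} ha hb z hz => by rw [map_add]; exact (ha z hz).add (hb z hz)
      smul_mem' := fun r a ha z hz hz1 => by
        by_cases h0 : r * a = 0
        · exact Or.inl (by rw [smul_eq_mul, h0, map_zero])
        obtain ⟨hr0, ha0⟩ := mul_ne_zero_iff.1 h0
        refine Or.inr ?_
        rw [smul_eq_mul, map_mul, Scheme.ord_mul (algebraMap_ne_zero hr0) (algebraMap_ne_zero ha0)]
        have h1 := (ha z hz hz1).resolve_left (algebraMap_ne_zero ha0)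
        have h2 := ord_nonneg hz hr0
        omega }
  have hI : ∀ {r : (X.presheaf.stalk x)}, r ∈ I → r ≠ 0 → ∀ z, z ⤳ x → coheight z = 1 → E z ≤ Scheme.ord ((algebraMap (X.presheaf.stalk x) X.functionField) r) z :=
    fun {r} hr hr0 z hz hz1 => by
      have := (hr z hz hz1).resolve_left (algebraMap_ne_zero hr0)
      simpa using this
  have hmax : ∀ p : PrimeSpectrum (X.presheaf.stalk x), p ≠ IsLocalRing.closedPoint (X.presheaf.stalk x) →
      ∀ {y : X} (hy : y ⤳ x), primeOf hy = p.asIdeal → y ≠ x := by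
    rintro p hp y hy he rfl
    refine hp (PrimeSpectrum.ext ?_)
    show p.asIdeal = IsLocalRing.maximalIdeal (X.presheaf.stalk y)
    rw [← he, primeOf]
    ext a
    obtain ⟨V, hV, b, rfl⟩ := TopCat.Presheaf.exists_germ_eq X.presheaf a
    rw [Ideal.mem_comap, TopCat.Presheaf.germ_stalkSpecializes_apply]
  -- local generators
  have key : ∀ p : PrimeSpectrum (X.presheaf.stalk x), p ≠ IsLocalRing.closedPoint (X.presheaf.stalk x) → ∃ (f : (X.presheaf.stalk x)) (g : I),
      f ∉ p.asIdeal ∧ (g : (X.presheaf.stalk x)) ≠ 0 ∧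
        ((PrimeSpectrum.basicOpen f : (Spec (CommRingCat.of (X.presheaf.stalk x))).Opens) ≤ FEt.puncturedSpec (X.presheaf.stalk x)) ∧
        (∀ w ∈ I, (g : (X.presheaf.stalk x)) ∣ f * w) ∧
        ∀ (y : X) (hy : y ⤳ x), primeOf hy = p.asIdeal → ∀ z, z ⤳ y → coheight z = 1 →
          Scheme.ord ((algebraMap (X.presheaf.stalk x) X.functionField) (g : (X.presheaf.stalk x))) z = E z := by
    intro p hp
    obtain ⟨y, hy, hyp⟩ := exists_primeOf x p.asIdeal
    obtain ⟨fy, hfy0, hfy⟩ := ih y hy (hmax p hp hy hyp)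
    have hF0 : fy * (algebraMap (X.presheaf.stalk x) X.functionField) c ≠ 0 := mul_ne_zero hfy0 (algebraMap_ne_zero hc0)
    have hFord : ∀ z, z ⤳ y → coheight z = 1 → Scheme.ord (fy * (algebraMap (X.presheaf.stalk x) X.functionField) c) z = E z := fun z hz hz1 => by
      rw [Scheme.ord_mul hfy0 (algebraMap_ne_zero hc0), ← hfy z hz1 hz]
    obtain ⟨q, hq⟩ := RingHom.mem_range.1 (mem_range_of_codim_one y (fy * (algebraMap (X.presheaf.stalk x) X.functionField) c) fun z hz hz1 =>
      (mem_range_iff hz1 hF0).2 (by rw [hFord z hz hz1]; exact hE0 z (hz.trans hy) hz1))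
    obtain ⟨a, s, hs, hqs⟩ := exists_frac hy q
    have hqK : fy * (algebraMap (X.presheaf.stalk x) X.functionField) c * (algebraMap (X.presheaf.stalk x) X.functionField) s = (algebraMap (X.presheaf.stalk x) X.functionField) a := by
      rw [← algebraMap_specializes hy s, ← algebraMap_specializes hy a, ← hqs, map_mul, hq]
    have hsK : (algebraMap (X.presheaf.stalk x) X.functionField) s ≠ 0 := algebraMap_ne_zero (ne_zero_of_notMem hy hs)
    have haK : (algebraMap (X.presheaf.stalk x) X.functionField) a ≠ 0 := by rw [← hqK]; exact mul_ne_zero hF0 hsK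
    have ha0 : a ≠ 0 := fun h0 => haK (by rw [h0, map_zero])
    have hsub : ∀ z, ∀ hz : z ⤳ y, ∀ v : (X.presheaf.stalk x), v ∉ primeOf hy →
        Scheme.ord ((algebraMap (X.presheaf.stalk x) X.functionField) v) z = 0 := fun z hz v hv => by
      show Scheme.ord (algebraMap (X.presheaf.stalk x) X.functionField v) z = 0
      rw [← algebraMap_specializes hy v]
      refine ord_eq_zero_of_notMem hz fun hmem => ?_
      obtain ⟨w, hw⟩ : IsUnit (X.presheaf.stalkSpecializes hy v) := not_not.1 hv
      exact hmem (by rw [← hw]; exact w.isUnit.map _)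
    have haord : ∀ z, z ⤳ y → coheight z = 1 → Scheme.ord ((algebraMap (X.presheaf.stalk x) X.functionField) a) z = E z := fun z hz hz1 => by
      rw [← hqK, Scheme.ord_mul hF0 hsK, hFord z hz hz1, hsub z hz s hs, add_zero]
    let B := (finite_bad hE hU).toFinset.filter fun z => z ⤳ x ∧ ¬ z ⤳ y
    have hB : ∀ z ∈ B, z ⤳ x ∧ ¬ z ⤳ y := fun z hz => (Finset.mem_filter.1 hz).2
    have he : ∀ z (hz : z ∈ B), ∃ e ∈ primeOf (hB z hz).1, e ∉ primeOf hy := fun z hz => by
      by_contra hcon
      push Not at hcon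
      exact (hB z hz).2 (specializes_of_le (hB z hz).1 hy hcon)
    choose e hemem hey using he
    let t' : (X.presheaf.stalk x) := ∏ z ∈ B.attach, e z.1 z.2 ^ (E z.1).toNat
    haveI : (primeOf hy).IsPrime := Ideal.IsPrime.comap _
    have ht' : t' ∉ primeOf hy := fun h => by
      obtain ⟨z, -, hz⟩ := (Ideal.IsPrime.prod_mem_iff (p := primeOf hy)).1 h
      exact hey _ z.2 (Ideal.IsPrime.mem_of_pow_mem inferInstance _ hz)
    have ht'0 : t' ≠ 0 := ne_zero_of_notMem hy ht'
    have hg0 : a * t' ≠ 0 := mul_ne_zero ha0 ht'0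
    have hgord : ∀ z, Scheme.ord ((algebraMap (X.presheaf.stalk x) X.functionField) (a * t')) z = Scheme.ord ((algebraMap (X.presheaf.stalk x) X.functionField) a) z + Scheme.ord ((algebraMap (X.presheaf.stalk x) X.functionField) t') z := fun z => by
      rw [map_mul, Scheme.ord_mul haK (algebraMap_ne_zero ht'0)]
    have hgI : a * t' ∈ I := fun z hz hz1 => by
      refine Or.inr ?_
      have h1 : E z ≤ Scheme.ord ((algebraMap (X.presheaf.stalk x) X.functionField) (a * t')) z := by
        rw [hgord]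
        have hna := ord_nonneg hz ha0
        have hnt := ord_nonneg hz ht'0
        by_cases hzy : z ⤳ y
        · rw [haord z hzy hz1]; omega
        by_cases hEz : E z = 0
        · omega
        have hzB : z ∈ B := Finset.mem_filter.2 ⟨(Set.Finite.mem_toFinset _).2 ⟨hUgen z hz, hz1, hEz⟩, hz, hzy⟩
        have hspl : t' = e z hzB ^ (E z).toNat * ∏ w ∈ B.attach.erase ⟨z, hzB⟩, e w.1 w.2 ^ (E w.1).toNat :=
          (Finset.mul_prod_erase _ (fun w : B => e w.1 w.2 ^ (E w.1).toNat) (Finset.mem_attach _ ⟨z, hzB⟩)).symm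
        have he0 : e z hzB ≠ 0 := ne_zero_of_notMem hy (hey z hzB)
        have hne2 : ∏ w ∈ B.attach.erase ⟨z, hzB⟩, e w.1 w.2 ^ (E w.1).toNat ≠ 0 :=
          Finset.prod_ne_zero_iff.2 fun w _ => pow_ne_zero _ (ne_zero_of_notMem hy (hey _ _))
        have h1 := le_ord_pow hz hz1 he0 (hemem z hzB) (E z).toNat
        have h2 := ord_nonneg hz hne2
        have h3 : Scheme.ord ((algebraMap (X.presheaf.stalk x) X.functionField) t') z = Scheme.ord ((algebraMap (X.presheaf.stalk x) X.functionField) (e z hzB ^ (E z).toNat)) z +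
            Scheme.ord ((algebraMap (X.presheaf.stalk x) X.functionField) (∏ w ∈ B.attach.erase ⟨z, hzB⟩, e w.1 w.2 ^ (E w.1).toNat)) z := by
          rw [hspl, map_mul, Scheme.ord_mul (algebraMap_ne_zero (pow_ne_zero _ he0)) (algebraMap_ne_zero hne2)]
        have h4 := hE0 z hz hz1
        show E z ≤ _
        change ((E z).toNat : ℤ) ≤ Scheme.ord ((algebraMap (X.presheaf.stalk x) X.functionField) _) z at h1
        change 0 ≤ Scheme.ord ((algebraMap (X.presheaf.stalk x) X.functionField) _) z at h2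
        omega
      simpa using h1
    have hex : ∀ w ∈ I, ∃ f ∉ primeOf hy, a * t' ∣ f * w := by
      intro w hw
      by_cases hw0 : w = 0
      · exact ⟨1, fun h => Ideal.IsPrime.ne_top' ((Ideal.eq_top_iff_one _).2 h), by simp [hw0]⟩
      have hne : (algebraMap (X.presheaf.stalk x) X.functionField) w * ((algebraMap (X.presheaf.stalk x) X.functionField) (a * t'))⁻¹ ≠ 0 :=
        mul_ne_zero (algebraMap_ne_zero hw0) (inv_ne_zero (algebraMap_ne_zero hg0))
      obtain ⟨q', hq'⟩ := RingHom.mem_range.1 (mem_range_of_codim_one y ((algebraMap (X.presheaf.stalk x) X.functionField) w * ((algebraMap (X.presheaf.stalk x) X.functionField) (a * t'))⁻¹) fun z hz hz1 =>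
        (mem_range_iff hz1 hne).2 (by
          rw [Scheme.ord_mul (algebraMap_ne_zero hw0) (inv_ne_zero (algebraMap_ne_zero hg0)),
            ord_inv z (algebraMap_ne_zero hg0)]
          have h1 := hI hw hw0 z (hz.trans hy) hz1
          have h2 := hgord z
          have h3 := haord z hz hz1
          have h4 := hsub z hz t' ht'
          omega))
      obtain ⟨r, f, hf, hrf⟩ := exists_frac hy q'
      refine ⟨f, hf, r, IsFractionRing.injective (X.presheaf.stalk x) X.functionField ?_⟩
      have hK : q'  * X.presheaf.stalkSpecializes hy f = X.presheaf.stalkSpecializes hy r := hrf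
      have hK' := congrArg (algebraMap (X.presheaf.stalk y) X.functionField) hK
      rw [map_mul, hq', algebraMap_specializes, algebraMap_specializes] at hK'
      show (algebraMap (X.presheaf.stalk x) X.functionField) (f * w) = (algebraMap (X.presheaf.stalk x) X.functionField) (a * t' * r)
      rw [map_mul, map_mul (f := (algebraMap (X.presheaf.stalk x) X.functionField)) (a * t') r, ← hK']
      show (algebraMap (X.presheaf.stalk x) X.functionField) f * (algebraMap (X.presheaf.stalk x) X.functionField) w = (algebraMap (X.presheaf.stalk x) X.functionField) (a * t') * ((algebraMap (X.presheaf.stalk x) X.functionField) w * ((algebraMap (X.presheaf.stalk x) X.functionField) (a * t'))⁻¹ * (algebraMap (X.presheaf.stalk x) X.functionField) f)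
      rw [mul_comm ((algebraMap (X.presheaf.stalk x) X.functionField) w) (_⁻¹), ← mul_assoc, ← mul_assoc,
        mul_inv_cancel₀ (algebraMap_ne_zero hg0), one_mul, mul_comm]
    obtain ⟨T, hT⟩ : I.FG := IsNoetherian.noetherian I
    have hTI : ∀ w ∈ T, w ∈ I := fun w hw => hT ▸ Ideal.subset_span hw
    choose f hf hfd using fun w : T => hex w (hTI w w.2)
    obtain ⟨m, hm, hmp⟩ : ∃ m ∈ IsLocalRing.maximalIdeal (X.presheaf.stalk x), m ∉ p.asIdeal := by
      by_contra! hall
      exact hp (PrimeSpectrum.ext ((IsLocalRing.le_maximalIdeal p.isPrime.ne_top).antisymm hall))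
    refine ⟨m * ∏ w, f w, ⟨a * t', hgI⟩, fun h => ?_, hg0, ?_, ?_, ?_⟩
    · rcases p.isPrime.mem_or_mem h with h | h
      · exact hmp h
      · obtain ⟨w, -, hw⟩ := (p.isPrime.prod_mem_iff).1 h
        exact hf w (hyp ▸ hw)
    · intro v hv he
      refine hv ?_
      subst he
      exact Ideal.mul_mem_right _ _ hm
    · intro w hw
      show a * t' ∣ _
      rw [← hT] at hw
      induction hw using Submodule.span_induction with
      | mem v hv =>
        obtain ⟨q', hq'⟩ := hfd ⟨v, hv⟩
        rw [← Finset.prod_erase_mul _ _ (Finset.mem_univ (⟨v, hv⟩ : T))]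
        exact ⟨m * (∏ z ∈ Finset.univ.erase ⟨v, hv⟩, f z) * q',
          by linear_combination (m * ∏ z ∈ Finset.univ.erase (⟨v, hv⟩ : T), f z) * hq'⟩
      | zero => simp
      | add u v _ _ hu hv => rw [mul_add]; exact dvd_add hu hv
      | smul r v _ hv => rw [smul_eq_mul, mul_left_comm]; exact dvd_mul_of_dvd_right hv r
    · intro y' hy' hyp' z hz hz1
      have : y' ⤳ y := specializes_of_le hy' hy (hyp'.trans hyp.symm).le
      rw [hgord, haord z (hz.trans this) hz1, hsub z (hz.trans this) t' ht', add_zero]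
  -- the generator
  haveI : IsIntegrallyClosed (X.presheaf.stalk x) := (Nrm.normal x).2
  obtain ⟨a, ha⟩ := exists_generator_of_punctured (A := (X.presheaf.stalk x)) (SerreLift.two_le_depth (X.presheaf.stalk x) hdim)
    ((S2824.result (X.presheaf.stalk x)).1 hpar).2 I (fun p hp => by
      obtain ⟨f, g, h1, h2, h3, h4, -⟩ := key p hp
      exact ⟨f, g, h1, h2, h3, h4⟩)
  have hmain : ∀ z, z ⤳ x → coheight z = 1 → a ≠ 0 ∧ Scheme.ord ((algebraMap (X.presheaf.stalk x) X.functionField) a) z = E z := fun z hz hz1 => by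
    haveI : (primeOf hz).IsPrime := Ideal.IsPrime.comap _
    have hzx : z ≠ x := fun e => by
      subst e
      rw [ringKrullDim_stalk_eq_coheight, hz1] at hdim
      exact absurd hdim (by decide)
    let p : PrimeSpectrum (X.presheaf.stalk x) := ⟨primeOf hz, inferInstance⟩
    have hp : p ≠ IsLocalRing.closedPoint (X.presheaf.stalk x) := fun e =>
      (primeOf_lt hz hzx).ne (congrArg PrimeSpectrum.asIdeal e)
    obtain ⟨⟨s, hs, hsa⟩, s', f', g', hs', hf', hg'0, hdvd, hdiv⟩ := ha p hp
    obtain ⟨f, g, hf, hg0, -, -, hord⟩ := key p hp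
    have hg : Scheme.ord ((algebraMap (X.presheaf.stalk x) X.functionField) (g : (X.presheaf.stalk x))) z = E z := hord z hz rfl z specializes_rfl hz1
    have hs'g : s' * (g' : (X.presheaf.stalk x)) ≠ 0 := mul_ne_zero (ne_zero_of_notMem hz hs') hg'0
    have ha0 : a ≠ 0 := fun h0 => hs'g (zero_dvd_iff.1 (h0 ▸ hdvd))
    refine ⟨ha0, le_antisymm ?_ ?_⟩
    · obtain ⟨r, hr⟩ := hdvd
      have hr0 : r ≠ 0 := fun h0 => hs'g (by rw [hr, h0, mul_zero])
      have e := congrArg (fun v => Scheme.ord ((algebraMap (X.presheaf.stalk x) X.functionField) v) z) hr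
      simp only [map_mul] at e
      rw [Scheme.ord_mul (algebraMap_ne_zero (ne_zero_of_notMem hz hs')) (algebraMap_ne_zero hg'0),
        Scheme.ord_mul (algebraMap_ne_zero ha0) (algebraMap_ne_zero hr0),
        ord_eq_zero_of_notMem hz hs'] at e
      obtain ⟨r', hr'⟩ := hdiv _ g.2
      have hfg : f' * (g : (X.presheaf.stalk x)) ≠ 0 := mul_ne_zero (ne_zero_of_notMem hz hf') hg0
      have hr'0 : r' ≠ 0 := fun h0 => hfg (by rw [hr', h0, mul_zero])
      have e' := congrArg (fun v => Scheme.ord ((algebraMap (X.presheaf.stalk x) X.functionField) v) z) hr'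
      simp only [map_mul] at e'
      rw [Scheme.ord_mul (algebraMap_ne_zero (ne_zero_of_notMem hz hf')) (algebraMap_ne_zero hg0),
        Scheme.ord_mul (algebraMap_ne_zero hg'0) (algebraMap_ne_zero hr'0),
        ord_eq_zero_of_notMem hz hf', hg] at e'
      have := ord_nonneg hz hr0
      have := ord_nonneg hz hr'0
      omega
    · have h1 := hI hsa (mul_ne_zero (ne_zero_of_notMem hz hs) ha0) z hz hz1
      rwa [map_mul, Scheme.ord_mul (algebraMap_ne_zero (ne_zero_of_notMem hz hs)) (algebraMap_ne_zero ha0),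
        ord_eq_zero_of_notMem hz hs, zero_add] at h1
  by_cases hex : ∃ z, z ⤳ x ∧ coheight z = 1
  · obtain ⟨z₀, hz₀, hz₀1⟩ := hex
    have ha0 := (hmain z₀ hz₀ hz₀1).1
    refine ⟨(algebraMap (X.presheaf.stalk x) X.functionField) a * ((algebraMap (X.presheaf.stalk x) X.functionField) c)⁻¹, mul_ne_zero (algebraMap_ne_zero ha0) (inv_ne_zero (algebraMap_ne_zero hc0)),
      fun z hz1 hz => ?_⟩
    rw [Scheme.ord_mul (algebraMap_ne_zero ha0) (inv_ne_zero (algebraMap_ne_zero hc0)),
      ord_inv z (algebraMap_ne_zero hc0), (hmain z hz hz1).2]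
    show Z z = Z z + Scheme.ord ((algebraMap (X.presheaf.stalk x) X.functionField) c) z + -Scheme.ord ((algebraMap (X.presheaf.stalk x) X.functionField) c) z
    omega
  · exact ⟨1, one_ne_zero, fun z hz1 hz => absurd ⟨z, hz, hz1⟩ hex⟩

theorem principalAt_everywhere (S : Set X)
    (hpar : ∀ x : X, closure {x} ∩ S = ∅ → (2 : WithBot ℕ∞) ≤ ringKrullDim (X.presheaf.stalk x) →
      ParaF.IsParafactorialLocalRing (X.presheaf.stalk x))
    (Z : X → ℤ) (hZfin : LocFin Z) (hS : ∀ s ∈ S, PrincipalAt Z s) (x : X) : PrincipalAt Z x := by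
  suffices ∀ (n : ℕ) (x : X), (IsLocalRing.maximalIdeal (X.presheaf.stalk x)).height ≤ n → PrincipalAt Z x by
    obtain ⟨n, hn⟩ := ENat.ne_top_iff_exists.1
      (Ideal.height_ne_top (I := IsLocalRing.maximalIdeal (X.presheaf.stalk x)) Ideal.IsPrime.ne_top')
    exact this n x hn.ge
  intro n
  induction n using Nat.strong_induction_on with
  | _ n ih =>
    intro x hx
    by_cases hxS : closure {x} ∩ S = ∅
    swap
    · obtain ⟨s, hsc, hs⟩ := Set.nonempty_iff_ne_empty.2 hxS
      obtain ⟨f, hf, hfs⟩ := hS s hs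
      exact ⟨f, hf, fun z hz hzx => hfs z hz (hzx.trans (specializes_iff_mem_closure.2 hsc))⟩
    by_cases hd : (2 : WithBot ℕ∞) ≤ ringKrullDim (X.presheaf.stalk x)
    · refine principalAt_of_generizations Z hZfin hd (hpar x hxS hd) fun y hy hne => ?_
      haveI : (primeOf hy).IsPrime := Ideal.IsPrime.comap _
      have hlt := Ideal.height_strict_mono_of_isPrime (primeOf_lt hy hne)
      have hy' : (IsLocalRing.maximalIdeal (X.presheaf.stalk y)).height = (primeOf hy).height :=
        WithBot.coe_eq_coe.1 ((IsLocalRing.maximalIdeal_height_eq_ringKrullDim).trans (ringKrullDim_eq_height hy))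
      rw [← hy'] at hlt
      obtain ⟨m, hm⟩ := ENat.ne_top_iff_exists.1 (ne_top_of_lt hlt)
      refine ih m ?_ y hm.ge
      have := hlt.trans_le hx
      rw [← hm] at this
      exact_mod_cast this
    · refine principalAt_of_dim_le_one Z ?_
      rw [not_le, ← IsLocalRing.maximalIdeal_height_eq_ringKrullDim] at hd
      rw [← IsLocalRing.maximalIdeal_height_eq_ringKrullDim]
      refine WithBot.coe_le_coe.2 ?_
      have h2 : (IsLocalRing.maximalIdeal (X.presheaf.stalk x)).height < ((1 : ℕ) : ℕ∞) + 1 :=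
        WithBot.coe_lt_coe.1 hd
      exact ENat.lt_natCast_add_one_iff.1 h2

end Groth.Agent.CodimOne
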