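import Groth.Agent.CodimOne.Principal
import Groth.Agent.S0234
import Groth.Agent.RefDiv.IsoLocus
import Groth.Agent.ProjUPLib.FrameTriv
import Groth.Agent.ParaFLib.Cat

/-!
# Principal prime divisors, factoriality and trivial Picard groups
-/

set_option autoImplicit false
set_option linter.style.haveILetI false
set_option backward.isDefEq.respectTransparency.types false

noncomputable section

universe u

open CategoryTheory AlgebraicGeometry TopologicalSpace Order Opposite
open Groth.Agent.QCohBase Groth.Agent.GenLocus Groth.Agent.RefDiv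

namespace Groth.Agent.CodimOne

variable {X : Scheme.{u}} [IsIntegral X] [IsLocallyNoetherian X]

theorem ufd_of_hypersurfaces
    (h : ∀ ζ : X, coheight ζ = 1 → ∃ g : Γ(X, ⊤),
      (∀ (x : X) (hx : ζ ⤳ x), primeOf hx = Ideal.span {X.presheaf.germ ⊤ x trivial g}) ∧
      ∀ x : X, ¬ ζ ⤳ x → IsUnit (X.presheaf.germ ⊤ x trivial g)) (x : X) :
    UniqueFactorizationMonoid (X.presheaf.stalk x) := by
  refine ufd_of_principalHeightOne fun P hP h1 => ?_
  haveI := hP
  obtain ⟨z, hz, rfl⟩ := exists_primeOf x P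
  have hz1 : coheight z = 1 := by
    have e := ringKrullDim_eq_height hz
    rw [ringKrullDim_stalk_eq_coheight, h1] at e
    exact WithBot.coe_eq_coe.1 e
  obtain ⟨g, hg, -⟩ := h z hz1
  refine ⟨_, mem_nonZeroDivisors_of_ne_zero fun h0 => ?_, hg x hz⟩
  rw [hg x hz, h0, Ideal.span_singleton_eq_bot.2 rfl, Ideal.height_bot] at h1
  exact zero_ne_one h1

theorem isNormalScheme_of_ufd (h : ∀ x : X, UniqueFactorizationMonoid (X.presheaf.stalk x)) :
    Pi1.IsNormalScheme X :=
  fun x => ⟨inferInstance, by have := h x; infer_instance⟩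

theorem finite_support [CompactSpace X] {D : X → ℤ} (hD : LocFin D) :
    {z : X | coheight z = 1 ∧ D z ≠ 0}.Finite := by
  choose W hW hfin using hD
  obtain ⟨t, ht⟩ := isCompact_univ.elim_finite_subcover (fun y : X => (W y : Set X))
    (fun y => (W y).isOpen) fun y _ => Set.mem_iUnion.mpr ⟨y, hW y⟩
  refine Set.Finite.subset (t.finite_toSet.biUnion fun y _ => hfin y) ?_
  intro z hz
  obtain ⟨y, hy, hzy⟩ := Set.mem_iUnion₂.mp (ht (Set.mem_univ z))
  exact Set.mem_biUnion hy ⟨hzy, hz⟩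

variable [Nrm X]

theorem hypersurface_ord {ζ : X} (hζ : coheight ζ = 1) (g : Γ(X, ⊤))
    (h1 : primeOf (specializes_rfl (x := ζ)) = Ideal.span {X.presheaf.germ ⊤ ζ trivial g})
    (h2 : ∀ x : X, ¬ ζ ⤳ x → IsUnit (X.presheaf.germ ⊤ x trivial g)) :
    ∃ f : X.functionField, f ≠ 0 ∧ Scheme.ord f ζ = 1 ∧
      ∀ x : X, x ≠ ζ → coheight x = 1 → Scheme.ord f x = 0 := by
  have hg0 : X.presheaf.germ ⊤ ζ trivial g ≠ 0 := fun h0 => by
    have e := ringKrullDim_eq_height (specializes_rfl (x := ζ))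
    rw [h1, h0, Ideal.span_singleton_eq_bot.2 rfl, Ideal.height_bot, ringKrullDim_stalk_eq_coheight, hζ] at e
    exact one_ne_zero (WithBot.coe_eq_coe.1 e)
  refine ⟨algebraMap (X.presheaf.stalk ζ) X.functionField (X.presheaf.germ ⊤ ζ trivial g),
    algebraMap_ne_zero hg0, ?_, fun x hx hx1 => ?_⟩
  · obtain ⟨π, -, hπ1, -, ϖ, hϖ, rfl⟩ := exists_uniformizer ζ hζ
    have hmem : X.presheaf.germ ⊤ ζ trivial g ∈ primeOf (specializes_rfl (x := ζ)) :=
      h1 ▸ Ideal.mem_span_singleton_self _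
    have hle := one_le_ord specializes_rfl hζ hg0 hmem
    have hϖm : ϖ ∈ primeOf (specializes_rfl (x := ζ)) := by
      show X.presheaf.stalkSpecializes (specializes_rfl (x := ζ)) ϖ ∈ IsLocalRing.maximalIdeal _
      rw [TopCat.Presheaf.stalkSpecializes_refl]
      exact (IsLocalRing.mem_maximalIdeal _).2 hϖ.not_isUnit
    obtain ⟨r, hr⟩ := Ideal.mem_span_singleton'.1 (h1 ▸ hϖm)
    have hr0 : r ≠ 0 := fun h0 => hϖ.ne_zero (by rw [← hr, h0, zero_mul])
    have := ord_nonneg (specializes_rfl (x := ζ)) hr0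
    rw [← hr, map_mul, Scheme.ord_mul (algebraMap_ne_zero hr0) (algebraMap_ne_zero hg0)] at hπ1
    omega
  · obtain ⟨v, hv⟩ := h2 x fun hsp => hx (eq_of_specializes_codim_one hζ hx1 hsp).symm
    rw [algebraMap_germ (U := (⊤ : X.Opens)) ζ trivial g, ← algebraMap_germ (U := (⊤ : X.Opens)) x trivial g, ← hv, ord_units]

theorem exists_ord_of_support [CompactSpace X]
    (h : ∀ x₀ : X, coheight x₀ = 1 → ∃ f : X.functionField, f ≠ 0 ∧
      Scheme.ord f x₀ = 1 ∧ ∀ x : X, x ≠ x₀ → coheight x = 1 → Scheme.ord f x = 0)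
    {D : X → ℤ} (hD : LocFin D) :
    ∃ f : X.functionField, f ≠ 0 ∧ ∀ z, coheight z = 1 → D z = Scheme.ord f z := by
  classical
  suffices ∀ (S : Finset X) (D : X → ℤ), (∀ z ∈ S, coheight z = 1) → (∀ z, coheight z = 1 → z ∉ S → D z = 0) →
      ∃ f : X.functionField, f ≠ 0 ∧ ∀ z, coheight z = 1 → D z = Scheme.ord f z from
    this (finite_support hD).toFinset D (fun z hz => ((Set.Finite.mem_toFinset _).1 hz).1)
      fun z hz hzS => by
        by_contra hne
        exact hzS ((Set.Finite.mem_toFinset _).2 ⟨hz, hne⟩)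
  intro S
  induction S using Finset.induction_on with
  | empty => exact fun D _ h0 => ⟨1, one_ne_zero, fun z hz => by rw [ord_one]; exact h0 z hz (Finset.notMem_empty z)⟩
  | insert a S ha ih =>
    intro D hS h0
    obtain ⟨fa, hfa, hfa1, hfa0⟩ := h a (hS a (Finset.mem_insert_self a S))
    obtain ⟨f, hf, hfD⟩ := ih (fun z => D z - D a * Scheme.ord fa z)
      (fun z hz => hS z (Finset.mem_insert_of_mem hz)) fun z hz hzS => by
        by_cases hza : z = a
        · subst hza; rw [hfa1]; ring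
        · rw [hfa0 z hza hz, h0 z hz fun hmem => (Finset.mem_insert.1 hmem).elim hza hzS]; ring
    have hz : ∀ (z : X) (n : ℤ), Scheme.ord (fa ^ n) z = n * Scheme.ord fa z := fun z n => by
      induction n using Int.induction_on with
      | zero => simp [ord_one]
      | succ i hi => rw [zpow_add_one₀ hfa, Scheme.ord_mul (zpow_ne_zero _ hfa) hfa, hi]; ring
      | pred i hi =>
        rw [sub_eq_add_neg, zpow_add₀ hfa, zpow_neg_one,
          Scheme.ord_mul (zpow_ne_zero _ hfa) (inv_ne_zero hfa), hi, ord_inv z hfa]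
        ring
    refine ⟨f * fa ^ D a, mul_ne_zero hf (zpow_ne_zero _ hfa), fun z hz1 => ?_⟩
    rw [Scheme.ord_mul hf (zpow_ne_zero _ hfa), hz, ← hfD z hz1]
    ring

theorem isRef1_of_isInvertible {L : X.Modules} (hL : PicF.IsInvertible L) : RefHull.IsRef1 L := by
  have hco := TensorMod.isCoh_of_isInvertible hL
  refine ⟨hco, (ReflStalk.isReflexive_iff hco).2 fun y => ?_, ⊤, ?_, TensorMod.isInvertible_restrict hL _⟩
  · haveI := RefDiv.finite_stalk hco y
    obtain ⟨W, -, hyW, -, e, he⟩ := GenLocus.exists_isFrame hL (W := ⊤) (x := y) trivial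
    haveI : Module.Free (X.presheaf.stalk y) (L.presheaf.stalk y) :=
      Module.Free.of_equiv (LinearEquiv.ofBijective (LinearMap.toSpanSingleton _ _
        (L.presheaf.germ W y hyW e)) (frame_stalk_bijective hyW he))
    show Module.IsReflexive _ _
    infer_instance
  · rw [Opens.coe_top]; exact dense_univ

theorem nonempty_iso_OD_zero [CompactSpace X]
    (h : ∀ x₀ : X, coheight x₀ = 1 → ∃ f : X.functionField, f ≠ 0 ∧
      Scheme.ord f x₀ = 1 ∧ ∀ x : X, x ≠ x₀ → coheight x = 1 → Scheme.ord f x = 0)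
    {D : X → ℤ} (hD : LocFin D) : Nonempty (OD D ≅ Coh.structureModule X) := by
  obtain ⟨f, hf, hfD⟩ := exists_ord_of_support h hD
  obtain ⟨k⟩ := iso_of_linEquiv hD locFin_zero hf fun z hz => by rw [Pi.zero_apply, zero_add]; exact hfD z hz
  obtain ⟨e⟩ := nonempty_structureIso (X := X)
  exact ⟨k ≪≫ e.symm⟩

/-- (2) ⇒ (3) -/
theorem ufd_picTrivial_of_principal [CompactSpace X]
    (h : ∀ x₀ : X, coheight x₀ = 1 → ∃ f : X.functionField, f ≠ 0 ∧
      Scheme.ord f x₀ = 1 ∧ ∀ x : X, x ≠ x₀ → coheight x = 1 → Scheme.ord f x = 0) :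
    (∀ x : X, UniqueFactorizationMonoid (X.presheaf.stalk x)) ∧
      ∀ L : X.Modules, PicF.IsInvertible L → Nonempty (L ≅ Coh.structureModule X) := by
  refine ⟨cartier_iff.1 fun Z _ hfin => ?_, fun L hL => ?_⟩
  · have hD : LocFin Z := fun x => by
      obtain ⟨W, hW, hf⟩ := hfin x
      exact ⟨W, hW, hf.subset fun z hz => ⟨hz.1, hz.2.2⟩⟩
    obtain ⟨v, hv⟩ := (fnlOD_good hD).bij.2 1
    have hv0 : v ≠ 0 := fun h => by rw [h, map_zero] at hv; exact zero_ne_one hv
    obtain ⟨k⟩ := nonempty_iso_OD_zero h hD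
    refine ⟨OD Z, TensorMod.isInvertible_of_iso k.symm (PicLoc.isInvertible_structureModule X),
      Submodule.Quotient.mk v, fun h => hv0 ((secFibre_bijective _).1 h), fun z hz => ?_⟩
    rw [secOrdAt_eq (fnlOD_good hD) hz (fun a b hab => evK_injective _ z (by
      rwa [valAt_fnlOD, valAt_fnlOD] at hab)) v hv0, hv, ord_one, add_zero]
  · obtain ⟨D, φ, hD, -, ⟨i⟩⟩ := exists_class (isRef1_of_isInvertible hL)
    obtain ⟨k⟩ := nonempty_iso_OD_zero h hD
    exact ⟨i ≪≫ k⟩

theorem ord_frame {D : X → ℤ} (hD : LocFin D) {W : X.Opens} {e : Γ(OD D, W)} (he : IsFrame (OD D) e)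
    (η : genericPoint X ∈ W) :
    evK D (genericPoint X) ((OD D).presheaf.germ W _ η e) ≠ 0 ∧
      ∀ w, w ∈ W → coheight w = 1 →
        Scheme.ord (evK D (genericPoint X) ((OD D).presheaf.germ W _ η e)) w = -D w := by
  set c := evK D (genericPoint X) ((OD D).presheaf.germ W _ η e) with hcdef
  have hc : ∀ w (hw : w ∈ W), evK D w ((OD D).presheaf.germ W w hw e) = c := fun w hw => by
    rw [hcdef, evK_germ, evK_germ]; exact sec_const D e ⟨w, hw⟩ ⟨_, η⟩
  have hc0 : c ≠ 0 := fun h0 => by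
    have h1 : (OD D).presheaf.germ W _ η e = 0 := evK_injective D _ (h0.trans (map_zero _).symm)
    exact one_ne_zero ((frame_stalk_bijective η he).1 (a₁ := 1) (a₂ := 0) (by simp [h1]))
  refine ⟨hc0, fun w hw hw1 => ?_⟩
  have h1 : -D w ≤ Scheme.ord c w := by
    rcases mem_of_evK D w ((OD D).presheaf.germ W w hw e) specializes_rfl hw1 with h | h
    · exact absurd ((hc w hw).symm.trans h) hc0
    · rwa [hc w hw] at h
  obtain ⟨b, hb, hbo⟩ := exists_ord_eq w hw1 (-D w)
  obtain ⟨u, hu⟩ := exists_evK hD w (c := b) fun w' hw' hw'1 => by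
    rw [eq_of_specializes_codim_one hw'1 hw1 hw']; exact fun _ => Or.inr hbo.ge
  obtain ⟨a, rfl⟩ := (frame_stalk_bijective hw he).2 u
  rw [map_smul, hc w hw, Algebra.smul_def] at hu
  have ha : algebraMap (X.presheaf.stalk w) X.functionField a ≠ 0 := fun h0 => hb (by
    rw [← hu, h0, zero_mul])
  have h2 := ord_algebraMap_nonneg a (fun h0 => ha (by rw [h0, map_zero]))
  rw [← hu, Scheme.ord_mul ha hc0] at hbo
  omega

/-- a neighbourhood of a codimension one point where `O(D)` is free -/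
theorem exists_frame_codim_one {D : X → ℤ} (hD : LocFin D) {z : X} (hz : coheight z = 1) :
    ∃ (W : X.Opens) (_ : z ∈ W) (e : Γ(OD D, W)), IsFrame (OD D) e := by
  obtain ⟨b, hb, hbo⟩ := exists_ord_eq z hz (-D z)
  obtain ⟨t₀, ht₀⟩ := exists_evK hD z (c := b) fun w' hw' hw'1 => by
    rw [eq_of_specializes_codim_one hw'1 hz hw']; exact fun _ => Or.inr hbo.ge
  obtain ⟨U₀, hzU₀, m₀, hm₀⟩ := TopCat.Presheaf.exists_germ_eq (OD D).presheaf t₀
  obtain ⟨_, ⟨U, hU, rfl⟩, hzU, hle⟩ := X.isBasis_affineOpens.exists_subset_of_mem_open hzU₀ U₀.isOpen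
  let m : Γ(OD D, U) := mres (OD D) (hle : U ≤ U₀) m₀
  have hm : (OD D).presheaf.germ U z hzU m = t₀ := by
    exact (TopCat.Presheaf.germ_res_apply (OD D).presheaf (homOfLE (hle : U ≤ U₀)) z hzU m₀).trans hm₀
  have hbij : Function.Bijective (RefDiv.genMap m z hzU) := by
    refine ⟨fun a a' h => ?_, fun v => ?_⟩
    · have h' : evK D z (a • t₀) = evK D z (a' • t₀) := by
        simp only [RefDiv.genMap, hm] at h
        rw [h]
      rw [map_smul, map_smul, ht₀, Algebra.smul_def, Algebra.smul_def] at h'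
      exact IsFractionRing.injective _ X.functionField (mul_right_cancel₀ hb h')
    · by_cases hv : evK D z v = 0
      · exact ⟨0, evK_injective D z (by simp [RefDiv.genMap, hv])⟩
      have hord : 0 ≤ Scheme.ord (evK D z v / b) z := by
        rw [div_eq_mul_inv, Scheme.ord_mul hv (inv_ne_zero hb), ord_inv z hb, hbo]
        rcases mem_of_evK D z v specializes_rfl hz with h | h
        · exact absurd h hv
        · omega
      obtain ⟨a, ha⟩ := (mem_range_iff hz (div_ne_zero hv hb)).mpr hord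
      refine ⟨a, evK_injective D z ?_⟩
      simp only [RefDiv.genMap, hm]
      rw [map_smul, Algebra.smul_def, ha, ht₀, div_mul_cancel₀ _ hb]
  obtain ⟨W, hzW, hWU, hgen⟩ := RefDiv.isOpen_generates (isRef1_OD hD).1 hU m hzU hbij
  refine ⟨W, hzW, mres (OD D) hWU m, ReflStalk.isFrame_of_genMap _ fun y hy => ?_⟩
  have : RefDiv.genMap (mres (OD D) hWU m) y hy = RefDiv.genMap m y (hWU hy) := funext fun a => by
    simp only [RefDiv.genMap, mres, TopCat.Presheaf.germ_res_apply]
  rw [this]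
  exact hgen y hy

/-- (4) ⇒ (2) -/
theorem principal_of_opens_picTrivial
    (h : ∀ (U : X.Opens) (L : (U : Scheme.{u}).Modules),
      PicF.IsInvertible L → Nonempty (L ≅ Coh.structureModule (U : Scheme.{u})))
    (x₀ : X) (hx₀ : coheight x₀ = 1) :
    ∃ f : X.functionField, f ≠ 0 ∧ Scheme.ord f x₀ = 1 ∧
      ∀ x : X, x ≠ x₀ → coheight x = 1 → Scheme.ord f x = 0 := by
  classical
  let D : X → ℤ := Pi.single x₀ 1
  have hD : LocFin D := fun y => ⟨⊤, trivial, (Set.finite_singleton x₀).subset fun w hw => by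
    by_contra hne
    exact hw.2.2 (Pi.single_eq_of_ne hne _)⟩
  let U : X.Opens := ⨆ i : {W : X.Opens // ∃ e : Γ(OD D, W), IsFrame (OD D) e}, i.1
  have hU : ∀ z, coheight z = 1 → z ∈ U := fun z hz => by
    obtain ⟨W, hzW, e, he⟩ := exists_frame_codim_one hD hz
    exact Opens.mem_iSup.2 ⟨⟨W, e, he⟩, hzW⟩
  have hη : genericPoint X ∈ U := eta_mem (hU x₀ hx₀)
  have hL : PicF.IsInvertible ((OD D).restrict U.ι) := by
    refine ParaFLib.isInvertible_of_local fun x => ?_
    obtain ⟨⟨W, e, he⟩, hxW⟩ := Opens.mem_iSup.1 x.2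
    have hWU : W ≤ U := le_iSup (fun i : {W : X.Opens // ∃ e : Γ(OD D, W), IsFrame (OD D) e} => i.1) ⟨W, e, he⟩
    obtain ⟨i⟩ := ProjUPLib.nonempty_triv_of_isFrame he
    refine ⟨W.toScheme, X.homOfLE hWU, inferInstance, ⟨x.1, hxW⟩, Subtype.ext ?_, ?_⟩
    · show ((X.homOfLE hWU) ⟨x.1, hxW⟩).1 = x.1
      simp
    refine TensorMod.isInvertible_of_iso ?_ (PicLoc.isInvertible_structureModule W.toScheme)
    exact i.symm ≪≫ (Scheme.Modules.restrictFunctorCongr (Scheme.homOfLE_ι X hWU).symm).app (OD D) ≪≫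
      (Scheme.Modules.restrictFunctorComp (X.homOfLE hWU) U.ι).app (OD D)
  obtain ⟨t⟩ := h U _ hL
  obtain ⟨e, he⟩ := GenLocus.exists_isFrame_of_triv t
  obtain ⟨hc0, hord⟩ := ord_frame hD he hη
  refine ⟨_, inv_ne_zero hc0, ?_, fun x hx hx1 => ?_⟩
  · rw [ord_inv x₀ hc0, hord x₀ (hU x₀ hx₀) hx₀, neg_neg]
    exact Pi.single_eq_same x₀ 1
  · rw [ord_inv x hc0, hord x (hU x hx1) hx1, neg_neg]
    exact Pi.single_eq_of_ne hx 1

/-- (2) ⇒ (1) -/
theorem hypersurfaces_of_principal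
    (h : ∀ x₀ : X, coheight x₀ = 1 → ∃ f : X.functionField, f ≠ 0 ∧
      Scheme.ord f x₀ = 1 ∧ ∀ x : X, x ≠ x₀ → coheight x = 1 → Scheme.ord f x = 0)
    (ζ : X) (hζ : coheight ζ = 1) :
    ∃ g : Γ(X, ⊤), (∀ (x : X) (hx : ζ ⤳ x), primeOf hx = Ideal.span {X.presheaf.germ ⊤ x trivial g}) ∧
      ∀ x : X, ¬ ζ ⤳ x → IsUnit (X.presheaf.germ ⊤ x trivial g) := by
  obtain ⟨f, hf, hf1, hf0⟩ := h ζ hζ
  have hnn : ∀ z, coheight z = 1 → 0 ≤ Scheme.ord f z := fun z hz => by
    by_cases e : z = ζ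
    · rw [e, hf1]; exact zero_le_one
    · rw [hf0 z e hz]
  obtain ⟨g, hg⟩ := exists_function (U := ⊤) (x₀ := ζ) trivial (c := f) fun y _ =>
    mem_range_of_codim_one y f fun z _ hz => (mem_range_iff hz hf).2 (hnn z hz)
  have hgK : ∀ x : X, algebraMap (X.presheaf.stalk x) X.functionField (X.presheaf.germ ⊤ x trivial g) = f :=
    fun x => (algebraMap_germ (U := (⊤ : X.Opens)) x trivial g).trans hg
  have hg0 : ∀ x : X, X.presheaf.germ ⊤ x trivial g ≠ 0 := fun x h0 => hf (by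
    rw [← hgK x, h0, map_zero])
  refine ⟨g, fun x hx => le_antisymm (fun a ha => ?_) ?_, fun x hx => ?_⟩
  · by_cases ha0 : a = 0
    · rw [ha0]; exact zero_mem _
    have hne : algebraMap (X.presheaf.stalk x) X.functionField a * f⁻¹ ≠ 0 :=
      mul_ne_zero (algebraMap_ne_zero ha0) (inv_ne_zero hf)
    obtain ⟨q, hq⟩ := RingHom.mem_range.1 (mem_range_of_codim_one x
      (algebraMap (X.presheaf.stalk x) X.functionField a * f⁻¹) fun z hz hz1 => by
        rw [mem_range_iff hz1 hne, Scheme.ord_mul (algebraMap_ne_zero ha0) (inv_ne_zero hf), ord_inv z hf]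
        by_cases e : z = ζ
        · subst e
          have := one_le_ord hz hz1 ha0 ha
          omega
        · rw [hf0 z e hz1]
          have := ord_nonneg hz ha0
          omega)
    refine Ideal.mem_span_singleton'.2 ⟨q, IsFractionRing.injective _ X.functionField ?_⟩
    rw [map_mul, hq, hgK x, mul_assoc, inv_mul_cancel₀ hf, mul_one]
  · rw [Ideal.span_singleton_le_iff_mem]
    by_contra hmem
    have h0 := ord_eq_zero_of_notMem hx hmem
    rw [hgK x, hf1] at h0
    exact one_ne_zero h0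
  · obtain ⟨q, hq⟩ := RingHom.mem_range.1 (mem_range_of_codim_one x f⁻¹ fun z hz hz1 => by
      rw [mem_range_iff hz1 (inv_ne_zero hf), ord_inv z hf, hf0 z (fun e => hx (e ▸ hz)) hz1, neg_zero])
    refine IsUnit.of_mul_eq_one q (IsFractionRing.injective _ X.functionField ?_)
    rw [map_mul, hgK x, hq, mul_inv_cancel₀ hf, map_one]

omit [IsLocallyNoetherian X] [Nrm X] [IsIntegral X] in
/-- (3) ⇒ (4) -/
theorem opens_picTrivial [IsLocallyNoetherian X]
    (hufd : ∀ x : X, UniqueFactorizationMonoid (X.presheaf.stalk x))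
    (hpic : ∀ L : X.Modules, PicF.IsInvertible L → Nonempty (L ≅ Coh.structureModule X))
    (U : X.Opens) (L : (U : Scheme.{u}).Modules) (hL : PicF.IsInvertible L) :
    Nonempty (L ≅ Coh.structureModule (U : Scheme.{u})) := by
  obtain ⟨L', hL', ⟨e⟩⟩ := S0234.result X U L hL fun x _ => hufd x
  obtain ⟨t⟩ := hpic L' hL'
  exact ⟨e.symm ≪≫ (Scheme.Modules.restrictFunctor U.ι).mapIso t ≪≫ Scheme.Modules.restrictUnitIso U.ι⟩

end Groth.Agent.CodimOne
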